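import Groth.Agent.AffCritLib.Rel
import Groth.Agent.RpushLib.ToAb

/-! Affineness of morphisms without `R¹` on ideals. -/

set_option autoImplicit false
set_option linter.style.haveILetI false
set_option backward.isDefEq.respectTransparency false

universe v v' u u'

open CategoryTheory CategoryTheory.Limits AlgebraicGeometry TopologicalSpace Opposite Pretriangulated

noncomputable section

namespace Groth.Agent.AffCritLib

section

attribute [local instance] HasDerivedCategory.standard

variable {A : Type u} [Category.{v} A] [Abelian A] [EnoughInjectives A]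
  {B : Type u'} [Category.{v'} B] [Abelian B] (S : A ⥤ B) [S.Additive]

/-- Derived functors vanish on an extension when they vanish on the ends. -/
theorem isZero_rightDerived_mid {T₀ : ShortComplex A} (hT₀ : T₀.ShortExact) (n : ℕ)
    (h₁ : IsZero ((S.rightDerived n).obj T₀.X₁)) (h₃ : IsZero ((S.rightDerived n).obj T₀.X₃)) :
    IsZero ((S.rightDerived n).obj T₀.X₂) := by
  let T : Triangle (DerivedCategory.Plus A) := Triangle.mk
    ((DerivedCategory.Plus.singleFunctor A 0).map T₀.f)
    ((DerivedCategory.Plus.singleFunctor A 0).map T₀.g)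
    (ObjectProperty.homMk (hT₀.singleδ ≫ ((DerivedCategory.Plus.ι (C := A)).commShiftIso (1 : ℤ)).inv.app
      ((DerivedCategory.Plus.singleFunctor A 0).obj T₀.X₁)))
  have hT : T ∈ distTriang (DerivedCategory.Plus A) := by
    rw [← (DerivedCategory.Plus.ι (C := A)).map_distinguished_iff]
    refine isomorphic_distinguished _ hT₀.singleTriangle_distinguished _
      (Triangle.isoMk _ _ (Iso.refl _) (Iso.refl _) (Iso.refl _)
        ((Category.comp_id _).trans (Category.id_comp _).symm)
        ((Category.comp_id _).trans (Category.id_comp _).symm) ?_)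
    refine ((congrArg (_ ≫ ·) ((shiftFunctor (DerivedCategory A) (1 : ℤ)).map_id _)).trans
      (Category.comp_id _)).trans (Eq.trans ?_ (Category.id_comp _).symm)
    exact (Category.assoc _ _ _).trans ((congrArg (hT₀.singleδ ≫ ·)
      (((DerivedCategory.Plus.ι (C := A)).commShiftIso (1 : ℤ)).inv_hom_id_app
        ((DerivedCategory.Plus.singleFunctor A 0).obj T₀.X₁))).trans (Category.comp_id _))
  obtain ⟨e₁⟩ := SpSeqLib.nonempty_rG_single_iso S T₀.X₁ n
  obtain ⟨e₂⟩ := SpSeqLib.nonempty_rG_single_iso S T₀.X₂ n
  obtain ⟨e₃⟩ := SpSeqLib.nonempty_rG_single_iso S T₀.X₃ n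
  exact IsZero.of_iso (((SpSeqLib.rG S).homologySequence_exact₂ T hT (n : ℤ)).isZero_of_both_zeros
    ((h₁.of_iso e₁).eq_of_src _ _) ((h₃.of_iso e₃).eq_of_tgt _ _)) e₂.symm

end

variable {X Y : Scheme.{u}}

attribute [local instance] Abelian.hasFiniteBiproducts

/-- Quasi-coherent submodules have no `R¹`. -/
def SubPushAcyclic (f : X ⟶ Y) (M : X.Modules) : Prop :=
  ∀ (G : X.Modules) (j : G ⟶ M), Mono j → Coh.IsQCoh G → IsZero ((Coh.RpushAb f 1).obj ((QCohLib.toAbF X).obj G))

theorem subPushAcyclic_biprod (f : X ⟶ Y)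
    (h : SubPushAcyclic f (Coh.structureModule X)) {E : X.Modules} (hE : SubPushAcyclic f E) :
    SubPushAcyclic f (E ⊞ Coh.structureModule X) := fun G j hj hG => by
  let p := j ≫ (biprod.snd : E ⊞ Coh.structureModule X ⟶ _)
  have hk := (QCohLib.isQCoh_image p hG inferInstance).1
  have hq := (QCohLib.isQCoh_image (kernel.ι p) hk hG).2
  let T : ShortComplex X.Modules :=
    ShortComplex.mk (kernel.ι p) (cokernel.π (kernel.ι p)) (cokernel.condition _)
  have hT : T.ShortExact := ShortComplex.ShortExact.mk'
    (ShortComplex.exact_of_g_is_cokernel _ (cokernelIsCokernel _)) inferInstance inferInstance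
  refine isZero_rightDerived_mid (Coh.pushAb f) (QCohLib.toAb_shortExact hT) 1
    (hE _ (kernel.ι p ≫ j ≫ biprod.fst) ?_ hk)
    (h _ (Abelian.factorThruCoimage p) inferInstance hq)
  refine Preadditive.mono_of_cancel_zero _ fun g hg => ?_
  have h1 : g ≫ kernel.ι p ≫ j = 0 := biprod.hom_ext _ _ (by simpa using hg)
    (by simp only [Category.assoc, zero_comp, show j ≫ biprod.snd = p from rfl, kernel.condition, comp_zero])
  rw [← cancel_mono (kernel.ι p ≫ j), zero_comp]
  exact h1

theorem exists_mono_subPushAcyclic (f : X ⟶ Y) (h : SubPushAcyclic f (Coh.structureModule X)) (n : ℕ) :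
    ∃ (E : X.Modules) (j : (⨁ fun _ : Fin n => Coh.structureModule X) ⟶ E), Mono j ∧ SubPushAcyclic f E := by
  induction n with
  | zero =>
    refine ⟨_, 0, Preadditive.mono_of_cancel_zero _ fun g _ => biproduct.hom_ext _ _ fun i => i.elim0, h⟩
  | succ n ih =>
    obtain ⟨E, j, hj, hE⟩ := ih
    haveI := hj
    refine ⟨_, biprod.lift (biproduct.lift (fun i : Fin n => biproduct.π (fun _ : Fin (n + 1) => Coh.structureModule X) i.castSucc) ≫ j)
      (biproduct.π _ (Fin.last n)), Preadditive.mono_of_cancel_zero _ fun g hg => ?_, subPushAcyclic_biprod f h hE⟩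
    have h1 := congrArg (· ≫ biprod.fst) hg
    have h2 := congrArg (· ≫ biprod.snd) hg
    simp only [Category.assoc, biprod.lift_fst, biprod.lift_snd, zero_comp] at h1 h2
    rw [← Category.assoc] at h1
    have h1' := zero_of_comp_mono j h1
    refine biproduct.hom_ext _ _ fun i => ?_
    rw [zero_comp]
    induction i using Fin.lastCases with
    | last => exact h2
    | cast i => simpa using congrArg (· ≫ biproduct.π (fun _ : Fin n => Coh.structureModule X) i) h1'

/-- A morphism without `R¹` on ideals is affine. -/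
theorem isAffineHom_of_R1 (f : X ⟶ Y) [QuasiCompact f]
    (h : SubPushAcyclic f (Coh.structureModule X)) : IsAffineHom f := by
  refine isAffineHom_of_epi_push f fun n N => ?_
  haveI : ∀ i, Mono (ClSub.idealModι (supIdeal (N i))) := fun _ => equalizer.ι_mono
  let e := Abelian.factorThruImage (supHom N)
  have hO : Coh.IsQCoh (Coh.structureModule X) := inferInstance
  have hc := (QCohLib.isQCoh_image (supHom N) (isQCoh_supObj N) hO).2
  have hM := (QCohLib.isQCoh_image (cokernel.π (supHom N)) hO hc).1
  have hk := (QCohLib.isQCoh_image e (isQCoh_supObj N) hM).1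
  obtain ⟨E, j, hj, hE⟩ := exists_mono_subPushAcyclic f h n
  have hz := hE _ (kernel.ι e ≫ (biproduct.map fun i => ClSub.idealModι (supIdeal (N i))) ≫ j) inferInstance hk
  have hT : (ShortComplex.mk (kernel.ι e) e (kernel.condition e)).ShortExact := ShortComplex.ShortExact.mk'
    (ShortComplex.exact_of_f_is_kernel _ (kernelIsKernel e)) inferInstance inferInstance
  have he := SpSeqLib.epi_map_of_isZero_rightDerived_one (Coh.pushAb f) (QCohLib.toAb_shortExact hT) hz
  haveI : (QCohLib.toAbF Y).Faithful := inferInstanceAs (SheafOfModules.toSheaf.{u} Y.ringCatSheaf).Faithful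
  exact (QCohLib.toAbF Y).epi_of_epi_map (f := (Coh.push f).map e) he

end Groth.Agent.AffCritLib
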