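import Groth.Agent.OmegaAffLib.Ideal
import Groth.Agent.DCohLib.HDCoprod
import Groth.Agent.DCohLib.QCohAbelian
import Groth.Agent.PullbackMod.Hom
import Groth.Prelude.Def_FlatMod2

/-! Affineness from partitions of unity subordinate to affine opens. -/

set_option autoImplicit false
set_option linter.style.haveILetI false
set_option backward.isDefEq.respectTransparency false

universe u

open CategoryTheory CategoryTheory.Limits AlgebraicGeometry TopologicalSpace Opposite

noncomputable section

namespace Groth.Agent.AffCritLib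

variable {X : Scheme.{u}}

attribute [local instance] Abelian.hasFiniteBiproducts

/-- The ideal sheaf of functions vanishing off an open. -/
def supIdeal (N : X.Opens) : X.IdealSheafData :=
  Scheme.IdealSheafData.vanishingIdeal ⟨(N : Set X)ᶜ, N.2.isClosed_compl⟩

theorem basicOpen_idealSect_le (N W : X.Opens) (m : Γ(ClSub.idealMod (supIdeal N), W)) :
    X.basicOpen (OmegaSh.idealSect (supIdeal N) W m) ≤ N := by
  intro z hz
  by_contra hzN
  have hzW : z ∈ W := X.basicOpen_le _ hz
  obtain ⟨_, ⟨W', hW', rfl⟩, hzW', hle⟩ := X.isBasis_affineOpens.exists_subset_of_mem_open hzW W.2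
  let a := X.presheaf.map (homOfLE (show W' ≤ W from hle)).op (OmegaSh.idealSect (supIdeal N) W m)
  have ha : a ∈ (supIdeal N).ideal ⟨W', hW'⟩ :=
    (OmegaAffLib.mem_range_idealSect _ ⟨W', hW'⟩ a).2 ⟨(ClSub.idealMod (supIdeal N)).presheaf.map
      (homOfLE (show W' ≤ W from hle)).op m,
      ConcreteCategory.congr_hom ((ClSub.idealModι (supIdeal N)).mapPresheaf.naturality
        (homOfLE (show W' ≤ W from hle)).op) m⟩
  have hza : z ∈ X.basicOpen a := by rw [Scheme.basicOpen_res]; exact ⟨hzW', hz⟩
  rw [supIdeal, Scheme.IdealSheafData.vanishingIdeal_ideal, PrimeSpectrum.mem_vanishingIdeal] at ha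
  let p := hW'.primeIdealOf ⟨z, hzW'⟩
  have hp : hW'.fromSpec p = z := hW'.fromSpec_primeIdealOf ⟨z, hzW'⟩
  have hmem : p ∈ hW'.fromSpec ⁻¹ᵁ X.basicOpen a := by show hW'.fromSpec p ∈ X.basicOpen a; rw [hp]; exact hza
  rw [hW'.fromSpec_preimage_basicOpen] at hmem
  exact hmem (ha p (by show hW'.fromSpec p ∈ (N : Set X)ᶜ; rw [hp]; exact hzN))

theorem exists_idealSect_eq_one {N W : X.Opens} (hW : IsAffineOpen W) (h : W ≤ N) :
    ∃ m : Γ(ClSub.idealMod (supIdeal N), W), OmegaSh.idealSect (supIdeal N) W m = 1 := by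
  refine (OmegaAffLib.mem_range_idealSect _ ⟨W, hW⟩ 1).1 ?_
  rw [supIdeal, Scheme.IdealSheafData.vanishingIdeal_ideal, PrimeSpectrum.mem_vanishingIdeal]
  intro p hp
  refine absurd (h ?_) hp
  exact hW.range_fromSpec.le ⟨p, rfl⟩

variable {n : ℕ} (N : Fin n → X.Opens)

/-- The sum of the ideals of functions supported in given opens. -/
def supObj : X.Modules := ⨁ fun i => ClSub.idealMod (supIdeal (N i))

/-- The map to the structure sheaf. -/
def supHom : supObj N ⟶ Coh.structureModule X := biproduct.desc fun i => ClSub.idealModι (supIdeal (N i))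

theorem isQCoh_supObj : Coh.IsQCoh (supObj N) :=
  DCohLib.isQCoh_of_iso'
    (biproduct.isoCoproduct (fun i => ClSub.idealMod (supIdeal (N i))) ≪≫
      (Sigma.whiskerEquiv (f := fun i : ULift.{u} (Fin n) => ClSub.idealMod (supIdeal (N i.down)))
        (g := fun i : Fin n => ClSub.idealMod (supIdeal (N i))) Equiv.ulift fun _ => Iso.refl _).symm).symm
    (DCohLib.isQCoh_sigma_modules _ fun i => OmegaAffLib.isQCoh_idealMod _)

theorem exists_mono_freeMod : ∃ i : supObj N ⟶ FlatMod.freeMod X n, Mono i := by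
  haveI : ∀ i, Mono (ClSub.idealModι (supIdeal (N i))) := fun _ => equalizer.ι_mono
  exact ⟨biproduct.map (fun i => ClSub.idealModι (supIdeal (N i))) ≫
    (biproduct.isoCoproduct fun _ : Fin n => Coh.structureModule X).hom, inferInstance⟩

theorem supHom_app (U : X.Opens) (s : Γ(supObj N, U)) :
    (show Γ(X, U) from (supHom N).app U s) = ∑ i, OmegaSh.idealSect (supIdeal (N i)) U
      ((biproduct.π (fun i => ClSub.idealMod (supIdeal (N i))) i).app U s) := by
  let F : (supObj N ⟶ Coh.structureModule X) →+ Γ(X, U) :=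
    { toFun := fun φ => φ.app U s
      map_zero' := rfl
      map_add' := fun φ ψ => rfl }
  have h : supHom N = ∑ i, biproduct.π (fun i => ClSub.idealMod (supIdeal (N i))) i ≫
      ClSub.idealModι (supIdeal (N i)) := biproduct.desc_eq
  show F (supHom N) = _
  rw [h, map_sum]
  rfl

/-- A section mapping to one splits the open into affines. -/
theorem isAffineOpen_of_app_eq_one {U : X.Opens} (s : Γ(supObj N, U))
    (hs : (show Γ(X, U) from (supHom N).app U s) = 1)
    (h : ∀ (i : Fin n) (g : Γ(X, U)), X.basicOpen g ≤ N i → IsAffineOpen (X.basicOpen g)) : IsAffineOpen U := by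
  let g : Fin n → Γ(X, U) := fun i => OmegaSh.idealSect (supIdeal (N i)) U
      ((biproduct.π (fun i => ClSub.idealMod (supIdeal (N i))) i).app U s)
  refine isAffineOpen_of_isAffineOpen_basicOpen U (Set.range g) (Ideal.eq_top_iff_one _ |>.2 ?_) ?_
  · rw [← hs, supHom_app]
    exact sum_mem fun i _ => Ideal.subset_span ⟨i, rfl⟩
  · rintro _ ⟨i, rfl⟩
    exact h i _ (basicOpen_idealSect_le _ _ _)

theorem basicOpen_of_le_affine {U W : X.Opens} (hW : IsAffineOpen W) (hWU : W ≤ U) (g : Γ(X, U))
    (h : X.basicOpen g ≤ W) : IsAffineOpen (X.basicOpen g) := by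
  have h' : X.basicOpen g = X.basicOpen (X.presheaf.map (homOfLE hWU).op g) := by
    rw [Scheme.basicOpen_res, inf_eq_right.2 h]
  rw [h']
  exact hW.basicOpen _

theorem stalk_supHom_surjective {x : X} (i : Fin n) (hx : x ∈ N i) :
    Function.Surjective (PullbackMod.stalkLin (supHom N) x) := by
  obtain ⟨_, ⟨W, hW, rfl⟩, hxW, hle⟩ := X.isBasis_affineOpens.exists_subset_of_mem_open hx (N i).2
  obtain ⟨m, hm⟩ := exists_idealSect_eq_one hW (show W ≤ N i from hle)
  intro z
  let b := biproduct.ι (fun i => ClSub.idealMod (supIdeal (N i))) i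
  have hb : b ≫ supHom N = ClSub.idealModι (supIdeal (N i)) := biproduct.ι_desc _ _
  have he : (show Γ(X, W) from (supHom N).app W (b.app W m)) = 1 := by
    show (show Γ(X, W) from (b ≫ supHom N).app W m) = _
    rw [hb]
    exact hm
  obtain ⟨O, hxO, a, rfl⟩ := TopCat.Presheaf.exists_germ_eq (Coh.structureModule X).presheaf z
  let V := O ⊓ W
  let a' : Γ(X, V) := X.presheaf.map (homOfLE (show V ≤ O from inf_le_left)).op (show Γ(X, O) from a)
  refine ⟨(supObj N).presheaf.germ V x ⟨hxO, hxW⟩
    (a' • (supObj N).presheaf.map (homOfLE (show V ≤ W from inf_le_right)).op (b.app W m)), ?_⟩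
  rw [PullbackMod.stalkLin_germ]
  rw [← TopCat.Presheaf.germ_res_apply (Coh.structureModule X).presheaf (homOfLE (show V ≤ O from inf_le_left)) x ⟨hxO, hxW⟩ a]
  refine congrArg _ ?_
  rw [Scheme.Modules.Hom.app_smul]
  have hnat : (show Γ(X, V) from (supHom N).app V ((supObj N).presheaf.map (homOfLE (show V ≤ W from inf_le_right)).op (b.app W m))) = 1 := by
    rw [show (show Γ(X, V) from (supHom N).app V ((supObj N).presheaf.map (homOfLE (show V ≤ W from inf_le_right)).op (b.app W m))) =
      X.presheaf.map (homOfLE (show V ≤ W from inf_le_right)).op (show Γ(X, W) from (supHom N).app W (b.app W m)) from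
      ConcreteCategory.congr_hom ((supHom N).mapPresheaf.naturality (homOfLE (show V ≤ W from inf_le_right)).op) _, he, map_one]
  exact (congrArg (a' * ·) hnat).trans (mul_one a')

/-- Surjectivity on global sections for subsheaves of free modules gives affineness. -/
theorem isAffine_of_surjective [CompactSpace X]
    (h : ∀ (n : ℕ) (F F'' : X.Modules) (i : F ⟶ FlatMod.freeMod X n) (p : F ⟶ F''),
      Mono i → Epi p → Coh.IsQCoh F → Coh.IsQCoh F'' → Function.Surjective (p.app ⊤)) : IsAffine X := by
  classical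
  obtain ⟨t, ht⟩ := isCompact_univ.elim_finite_subcover (fun W : X.affineOpens => (W.1 : Set X))
    (fun W => W.1.2) fun x _ => by
      obtain ⟨_, ⟨W, hW, rfl⟩, hx, -⟩ := X.isBasis_affineOpens.exists_subset_of_mem_open (Set.mem_univ x) isOpen_univ
      exact Set.mem_iUnion.2 ⟨⟨W, hW⟩, hx⟩
  let N : Fin t.card → X.Opens := fun i => (t.equivFin.symm i).1.1
  haveI : Epi (supHom N) := (PullbackMod.epi_iff_stalk _).2 fun x => by
    obtain ⟨W, hWt, hx⟩ := Set.mem_iUnion₂.1 (ht (Set.mem_univ x))
    exact stalk_supHom_surjective N (t.equivFin ⟨W, hWt⟩) (by simpa [N] using hx)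
  obtain ⟨i, hi⟩ := exists_mono_freeMod N
  obtain ⟨s, hs⟩ := h _ _ _ i (supHom N) hi inferInstance (isQCoh_supObj N) inferInstance
    (show Γ(Coh.structureModule X, ⊤) from (1 : Γ(X, ⊤)))
  have := isAffineOpen_of_app_eq_one N s hs fun i g hg =>
    basicOpen_of_le_affine (t.equivFin.symm i).1.2 le_top g hg
  haveI : IsAffine ((⊤ : X.Opens) : Scheme.{u}) := this
  exact IsAffine.of_isIso X.topIso.inv

end Groth.Agent.AffCritLib
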