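import Groth.Agent.AffCritLib.Basic
import Groth.Agent.AmpleCritLib.Rel
import Groth.Agent.AmpleLib.Product

/-! Quasi-affineness from generation of ideals by sections. -/

set_option autoImplicit false
set_option linter.style.haveILetI false
set_option backward.isDefEq.respectTransparency false

universe u

open CategoryTheory CategoryTheory.Limits AlgebraicGeometry TopologicalSpace Opposite

noncomputable section

namespace Groth.Agent.AffCritLib

variable {X Y : Scheme.{u}}

/-- If sections of an ideal generate it at a point, one of them is invertible there wherever the ideal is trivial. -/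
theorem exists_isUnit_of_span (I : X.IdealSheafData) {U : X.Opens} {x : X} (hx : x ∈ U)
    {V : X.Opens} (hxV : x ∈ V) {m : Γ(ClSub.idealMod I, V)} (hm : OmegaSh.idealSect I V m = 1)
    (h : Submodule.span (X.presheaf.stalk x) (Set.range fun σ : Γ(ClSub.idealMod I, U) =>
      (ClSub.idealMod I).presheaf.germ U x hx σ) = ⊤) :
    ∃ σ : Γ(ClSub.idealMod I, U), x ∈ X.basicOpen (OmegaSh.idealSect I U σ) := by
  by_contra hne
  rw [not_exists] at hne
  have hgerm : ∀ {W : X.Opens} (hxW : x ∈ W) (a : Γ(X, W)),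
      (Coh.structureModule X).presheaf.germ W x hxW (show Γ(Coh.structureModule X, W) from a) =
        X.presheaf.germ W x hxW a • ParaFLib.oneG x := fun {W} hxW a => by
    rw [ParaFLib.oneG, ← TopCat.Presheaf.germ_res_apply (Coh.structureModule X).presheaf
      (homOfLE (le_top : W ≤ ⊤)) x hxW (show Γ(Coh.structureModule X, ⊤) from (1 : Γ(X, ⊤))), ← ParaFLib.germ_smul' x hxW]
    refine congrArg _ ?_
    show a = a * X.presheaf.map _ (1 : Γ(X, ⊤))
    rw [map_one, mul_one]
  have key : ∀ z : (ClSub.idealMod I).presheaf.stalk x, ∃ r ∈ IsLocalRing.maximalIdeal (X.presheaf.stalk x),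
      PullbackMod.stalkLin (ClSub.idealModι I) x z = r • ParaFLib.oneG x := by
    intro z
    have hz : z ∈ Submodule.span (X.presheaf.stalk x) (Set.range fun σ : Γ(ClSub.idealMod I, U) =>
      (ClSub.idealMod I).presheaf.germ U x hx σ) := h ▸ Submodule.mem_top
    induction hz using Submodule.span_induction with
    | mem z hz =>
      obtain ⟨σ, rfl⟩ := hz
      refine ⟨X.presheaf.germ U x hx (OmegaSh.idealSect I U σ),
        fun hu => hne σ ((Scheme.mem_basicOpen _ _ x hx).2 hu), ?_⟩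
      rw [PullbackMod.stalkLin_germ]
      exact hgerm hx _
    | zero => exact ⟨0, zero_mem _, by rw [map_zero, zero_smul]⟩
    | add a b _ _ ha hb =>
      obtain ⟨r, hr, hr'⟩ := ha
      obtain ⟨r', hs, hs'⟩ := hb
      exact ⟨r + r', add_mem hr hs, by rw [map_add, hr', hs', add_smul]⟩
    | smul c a _ ha =>
      obtain ⟨r, hr, hr'⟩ := ha
      exact ⟨c * r, Ideal.mul_mem_left _ c hr, by rw [map_smul, hr', mul_smul]⟩
  obtain ⟨r, hr, he⟩ := key ((ClSub.idealMod I).presheaf.germ V x hxV m)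
  rw [PullbackMod.stalkLin_germ] at he
  have he' : X.presheaf.germ V x hxV (OmegaSh.idealSect I V m) • ParaFLib.oneG x = r • ParaFLib.oneG x :=
    (hgerm hxV _).symm.trans he
  have := (ParaFLib.bijective_oneG x).1 he'
  rw [← this, hm, map_one] at hr
  exact hr isUnit_one

/-- Generation of the finite type ideals by global sections gives quasi-affineness. -/
theorem isQuasiAffine_of_ideals [CompactSpace X] [QuasiSeparatedSpace X]
    (h : ∀ I : X.IdealSheafData, BlowUp.IsFiniteTypeIdeal I → Curv2.IsGloballyGenerated (ClSub.idealMod I)) :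
    X.IsQuasiAffine := by
  refine Scheme.IsQuasiAffine.of_forall_exists_mem_basicOpen X fun x => ?_
  obtain ⟨_, ⟨N, hN, rfl⟩, hxN, -⟩ := X.isBasis_affineOpens.exists_subset_of_mem_open (Set.mem_univ x) isOpen_univ
  obtain ⟨I, hI, hIN, V, hxV, h1⟩ := AmpleCritLib.exists_ftIdeal (x := x) (U := N) hxN
  obtain ⟨m, hm⟩ := (OmegaAffLib.mem_range_idealSect I V 1).1 h1
  obtain ⟨σ, hσ⟩ := exists_isUnit_of_span I (U := ⊤) trivial hxV hm (ProjBundleLib.span_germ_of_isGloballyGenerated (h I hI) x)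
  refine ⟨OmegaSh.idealSect I ⊤ σ, basicOpen_of_le_affine hN le_top _ fun z hz => ?_, hσ⟩
  obtain ⟨_, ⟨W, hW, rfl⟩, hzW, -⟩ := X.isBasis_affineOpens.exists_subset_of_mem_open (Set.mem_univ z) isOpen_univ
  have ha : X.presheaf.map (homOfLE (le_top : W ≤ ⊤)).op (OmegaSh.idealSect I ⊤ σ) ∈ I.ideal ⟨W, hW⟩ :=
    (OmegaAffLib.mem_range_idealSect I ⟨W, hW⟩ _).2 ⟨(ClSub.idealMod I).presheaf.map (homOfLE (le_top : W ≤ ⊤)).op σ,
      ConcreteCategory.congr_hom ((ClSub.idealModι I).mapPresheaf.naturality (homOfLE (le_top : W ≤ ⊤)).op) σ⟩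
  exact hIN ⟨W, hW⟩ _ ha (by rw [Scheme.basicOpen_res]; exact ⟨hzW, hz⟩)

/-- Quasi-affine morphisms have generated modules. -/
theorem epi_counit_of_isQuasiAffine (f : X ⟶ Y) (hf : Mor2.IsQuasiAffine f) (F : X.Modules) (hF : Coh.IsQCoh F) :
    Epi ((Scheme.Modules.pullbackPushforwardAdjunction f).counit.app F) := by
  haveI := hF
  refine ProjBundleLib.epi_counit_of_span f F fun y => ?_
  obtain ⟨_, ⟨V, hV, rfl⟩, hyV, -⟩ := Y.isBasis_affineOpens.exists_subset_of_mem_open (Set.mem_univ (f y)) isOpen_univ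
  haveI := hf.2 V hV
  haveI : Coh.IsQCoh (F.restrict (f ⁻¹ᵁ V).ι) := inferInstance
  exact ⟨V, hyV, ProjBundleLib.span_germ_of_restrict (U := f ⁻¹ᵁ V) (AmpleLib.isGloballyGenerated_of_isQuasiAffine (F.restrict (f ⁻¹ᵁ V).ι)) hyV⟩

theorem isSeparated_of_isQuasiAffine (f : X ⟶ Y) (hf : Mor2.IsQuasiAffine f) : IsSeparated f := by
  refine (IsZariskiLocalAtTarget.iff_of_iSup_eq_top (P := @IsSeparated) (fun V : Y.affineOpens => V.1)
    (iSup_affineOpens_eq_top Y)).2 fun V => ?_
  haveI := hf.2 V.1 V.2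
  haveI : IsAffine (V.1 : Scheme.{u}) := V.2
  exact IsSeparated.of_comp _ (terminal.from _)

/-- Morphisms with generated quasi-coherent modules are quasi-affine. -/
theorem isQuasiAffine_of_epi_counit (f : X ⟶ Y) [QuasiCompact f] [QuasiSeparated f]
    (h : ∀ F : X.Modules, Coh.IsQCoh F → Epi ((Scheme.Modules.pullbackPushforwardAdjunction f).counit.app F)) :
    Mor2.IsQuasiAffine f := by
  refine ⟨inferInstance, fun V hV => ?_⟩
  let U := f ⁻¹ᵁ V
  haveI : CompactSpace (U : Scheme.{u}) := isCompact_iff_compactSpace.1 (f.isCompact_preimage hV.isCompact)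
  refine Scheme.IsQuasiAffine.of_forall_exists_mem_basicOpen _ fun ⟨x, hx⟩ => ?_
  obtain ⟨_, ⟨N, hN, rfl⟩, hxN, hNU⟩ := X.isBasis_affineOpens.exists_subset_of_mem_open hx U.2
  obtain ⟨m, hm⟩ := exists_idealSect_eq_one hN (le_refl N)
  let I := supIdeal N
  haveI := OmegaAffLib.isQCoh_idealMod I
  let M := ClSub.idealMod I
  have hspan : Submodule.span (X.presheaf.stalk x) (Set.range fun σ : Γ(M, U) => M.presheaf.germ U x hx σ) = ⊤ := by
    rw [eq_top_iff, ← AmpleLib.span_germ_preimage_of_epi_counit f M (h M inferInstance) x, Submodule.span_le]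
    rintro _ ⟨W, hxW, σ, rfl⟩
    obtain ⟨W', hW'W, hW'V, r, σ', hfx, heq⟩ := ProjBundleLib.exists_mult
      (E := (Scheme.Modules.pushforward f).obj M) (QCohLib.isQCoh_pushforward M f) hV (y := f x) hx hxW σ
    have e1 : M.presheaf.map (homOfLE (f.preimage_mono hW'W)).op σ =
        f.app W' r • M.presheaf.map (homOfLE (f.preimage_mono hW'V)).op σ' := heq
    have e2 := congrArg (M.presheaf.germ (f ⁻¹ᵁ W') x hfx) e1
    rw [ParaFLib.germ_smul' x, TopCat.Presheaf.germ_res_apply, TopCat.Presheaf.germ_res_apply] at e2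
    show M.presheaf.germ (f ⁻¹ᵁ W) x hxW σ ∈ _
    rw [e2]
    exact Submodule.smul_mem _ _ (Submodule.subset_span ⟨σ', rfl⟩)
  obtain ⟨σ, hσ⟩ := exists_isUnit_of_span I hx hxN hm hspan
  have hA := basicOpen_of_le_affine hN (show N ≤ U from hNU) _ (basicOpen_idealSect_le N U σ)
  refine ⟨U.topIso.inv (OmegaSh.idealSect I U σ), ?_, ?_⟩
  · rw [← U.ι.isAffineOpen_iff_of_isOpenImmersion, Scheme.Opens.ι_image_basicOpen_topIso_inv]
    exact hA
  · have h' : U.ι ⟨x, hx⟩ ∈ U.ι ''ᵁ (U : Scheme.{u}).basicOpen (U.topIso.inv (OmegaSh.idealSect I U σ)) := by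
      rw [Scheme.Opens.ι_image_basicOpen_topIso_inv]
      exact hσ
    obtain ⟨z, hz, he⟩ := h'
    rwa [← U.ι.isOpenEmbedding.injective he]

end Groth.Agent.AffCritLib
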