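import Groth.Agent.AffCritLib.Basic
import Groth.Agent.QCohLib.Exact

/-! Affineness of morphisms with exact direct image. -/

set_option autoImplicit false
set_option linter.style.haveILetI false
set_option backward.isDefEq.respectTransparency false

universe u

open CategoryTheory CategoryTheory.Limits AlgebraicGeometry TopologicalSpace Opposite

noncomputable section

namespace Groth.Agent.AffCritLib

variable {X Y : Scheme.{u}}

attribute [local instance] Abelian.hasFiniteBiproducts

/-- A morphism whose direct image keeps sums of ideals surjective is affine. -/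
theorem isAffineHom_of_epi_push (f : X ⟶ Y) [QuasiCompact f]
    (h : ∀ (n : ℕ) (N : Fin n → X.Opens),
      Epi ((Coh.push f).map (Abelian.factorThruImage (supHom N)))) : IsAffineHom f := by
  classical
  refine ⟨fun W hW => ?_⟩
  obtain ⟨t, ht⟩ := (f.isCompact_preimage hW.isCompact).elim_finite_subcover
    (fun W' : {W' : X.affineOpens // W'.1 ≤ f ⁻¹ᵁ W} => (W'.1.1 : Set X)) (fun W' => W'.1.1.2) fun x hx => by
      obtain ⟨_, ⟨W', hW', rfl⟩, hx', hle⟩ := X.isBasis_affineOpens.exists_subset_of_mem_open hx (f ⁻¹ᵁ W).2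
      exact Set.mem_iUnion.2 ⟨⟨⟨W', hW'⟩, hle⟩, hx'⟩
  let N : Fin t.card → X.Opens := fun i => (t.equivFin.symm i).1.1.1
  let M := Abelian.image (supHom N)
  let e := Abelian.factorThruImage (supHom N)
  have h0 : (cokernel.π (supHom N)).app (f ⁻¹ᵁ W) (show Γ(Coh.structureModule X, f ⁻¹ᵁ W) from (1 : Γ(X, f ⁻¹ᵁ W))) = 0 := by
    refine TopCat.Presheaf.section_ext (⟨(cokernel (supHom N)).presheaf, (cokernel (supHom N)).isSheaf⟩ :
      TopCat.Sheaf Ab X) (f ⁻¹ᵁ W) _ _ fun x hx => ?_
    obtain ⟨W', hW't, hx'⟩ := Set.mem_iUnion₂.1 (ht hx)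
    obtain ⟨w, hw⟩ := stalk_supHom_surjective N (x := x) (t.equivFin ⟨W', hW't⟩) (by simpa [N] using hx')
      ((Coh.structureModule X).presheaf.germ (f ⁻¹ᵁ W) x hx (show Γ(Coh.structureModule X, f ⁻¹ᵁ W) from (1 : Γ(X, f ⁻¹ᵁ W))))
    show (cokernel (supHom N)).presheaf.germ _ x hx _ = (cokernel (supHom N)).presheaf.germ _ x hx 0
    rw [← PullbackMod.stalkLin_germ, ← hw, map_zero]
    show (PullbackMod.stalkLin (cokernel.π (supHom N)) x ∘ₗ PullbackMod.stalkLin (supHom N) x) w = 0
    rw [← PullbackMod.stalkLin_comp, cokernel.condition]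
    obtain ⟨O, hxO, w', rfl⟩ := TopCat.Presheaf.exists_germ_eq (supObj N).presheaf w
    rw [PullbackMod.stalkLin_germ]
    exact map_zero _
  let one : Γ(M, f ⁻¹ᵁ W) := OmegaSh.kerLift (cokernel.π (supHom N)) (f ⁻¹ᵁ W) _ h0
  have hloc : ∀ y : (W : Y.Opens), ∃ (a : Γ(Y, W)), y.1 ∈ Y.basicOpen a ∧ IsAffineOpen (f ⁻¹ᵁ Y.basicOpen a) := by
    rintro ⟨y, hy⟩
    have hs := (PullbackMod.epi_iff_stalk _).1 (h _ N) y
      (((Coh.push f).obj M).presheaf.germ W y hy (show Γ((Coh.push f).obj M, W) from one))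
    obtain ⟨z, hz⟩ := hs
    obtain ⟨V, hyV, s, rfl⟩ := TopCat.Presheaf.exists_germ_eq ((Coh.push f).obj (supObj N)).presheaf z
    rw [PullbackMod.stalkLin_germ] at hz
    obtain ⟨V', hyV', i₁, i₂, heq⟩ := ((Coh.push f).obj M).presheaf.germ_eq y hyV hy _ _ hz
    obtain ⟨a, hale, hya⟩ := hW.exists_basicOpen_le (V := V' ⊓ W) ⟨y, hyV', hy⟩ hy
    refine ⟨a, hya, ?_⟩
    have hV : Y.basicOpen a ≤ V := hale.trans (inf_le_left.trans i₁.le)
    let U := f ⁻¹ᵁ Y.basicOpen a
    let s' : Γ(supObj N, U) := (supObj N).presheaf.map (homOfLE (f.preimage_mono hV)).op s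
    refine isAffineOpen_of_app_eq_one N s' ?_ fun i g hg => ?_
    · have e1 := congrArg (fun m => M.presheaf.map (homOfLE (f.preimage_mono (hale.trans (inf_le_left : V' ⊓ W ≤ V')))).op m) heq
      have hres : ∀ {A B C : X.Opens} (h₁ : B ⟶ A) (h₂ : C ⟶ B) (h₃ : C ⟶ A) (x : Γ(M, A)),
          M.presheaf.map h₂.op (M.presheaf.map h₁.op x) = M.presheaf.map h₃.op x := fun h₁ h₂ h₃ x => by
        rw [Subsingleton.elim h₃ (h₂ ≫ h₁), op_comp, Functor.map_comp]
        rfl
      have e2 : e.app U s' = M.presheaf.map (homOfLE (f.preimage_mono (Y.basicOpen_le a))).op one := by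
        refine Eq.trans ?_ (Eq.trans e1 ?_)
        · refine Eq.trans (ConcreteCategory.congr_hom (e.mapPresheaf.naturality (homOfLE (f.preimage_mono hV)).op) s) ?_
          exact (hres ((Opens.map f.base).map i₁) _ (homOfLE (f.preimage_mono hV)) _).symm
        · exact hres ((Opens.map f.base).map i₂) _ _ _
      have e3 := congrArg (fun m => (show Γ(X, U) from (kernel.ι (cokernel.π (supHom N))).app U m)) e2
      refine Eq.trans ?_ (e3.trans ?_)
      · show _ = (show Γ(X, U) from (e ≫ kernel.ι (cokernel.π (supHom N))).app U s')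
        rw [show e ≫ kernel.ι (cokernel.π (supHom N)) = supHom N from Abelian.image.fac _]
      · refine Eq.trans (ConcreteCategory.congr_hom ((kernel.ι (cokernel.π (supHom N))).mapPresheaf.naturality
          (homOfLE (f.preimage_mono (Y.basicOpen_le a))).op) one) ?_
        show X.presheaf.map _ _ = (1 : Γ(X, U))
        erw [OmegaSh.ι_kerLift]
        exact map_one _
    · have hle : (N i) ≤ f ⁻¹ᵁ W := (t.equivFin.symm i).1.2
      have hA : IsAffineOpen (N i ⊓ U) := by
        have : N i ⊓ U = X.basicOpen (X.presheaf.map (homOfLE hle).op (f.app W a)) := by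
          rw [Scheme.basicOpen_res, ← Scheme.preimage_basicOpen]
        rw [this]
        exact (t.equivFin.symm i).1.1.2.basicOpen _
      exact basicOpen_of_le_affine hA inf_le_right g (le_inf hg (X.basicOpen_le g))
  choose a ha hA using hloc
  refine isAffineOpen_of_isAffineOpen_basicOpen (f ⁻¹ᵁ W) (Set.range fun y => f.app W (a y)) ?_ ?_
  · rw [Set.range_comp' (f.app W) a, ← Ideal.map_span]
    rw [show Ideal.span (Set.range a) = ⊤ from hW.self_le_iSup_basicOpen_iff.1 fun y hy => Opens.mem_iSup.2 ⟨⟨_, ⟨⟨y, hy⟩, rfl⟩⟩, ha ⟨y, hy⟩⟩, Ideal.map_top]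
  · rintro _ ⟨y, rfl⟩
    rw [← Scheme.preimage_basicOpen]
    exact hA y

/-- A morphism with exact direct image is affine. -/
theorem isAffineHom_of_exact (f : X ⟶ Y) [QuasiCompact f]
    (h : ∀ (F F'' : X.Modules) (p : F ⟶ F''), Coh.IsQCoh F → Coh.IsQCoh F'' → Epi p → Epi ((Coh.push f).map p)) :
    IsAffineHom f := by
  refine isAffineHom_of_epi_push f fun n N => ?_
  haveI := isQCoh_supObj N
  have hO : Coh.IsQCoh (Coh.structureModule X) := inferInstance
  have hc := (QCohLib.isQCoh_image (supHom N) ‹_› hO).2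
  exact h _ _ _ (isQCoh_supObj N) (QCohLib.isQCoh_image (cokernel.π (supHom N)) hO hc).1 inferInstance

end Groth.Agent.AffCritLib
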